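/-
Exactness of the Amitsur complex of a faithfully flat ring map, realised as the alternating
coface complex of the Čech conerve in commutative rings.
-/
import Mathlib

universe u

open CategoryTheory CategoryTheory.Limits Simplicial TensorProduct

namespace GrothLib.Amitsur

noncomputable section

variable (R A : Type u) [CommRing R] [CommRing A] [Algebra R A]

/-- The arrow. -/
abbrev arr : Arrow CommRingCat.{u} := Arrow.mk (CommRingCat.ofHom (algebraMap R A))

/-- The (constant) family of maps. -/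
abbrev arrs (n : ℕ) : Fin (n + 1) → (CommRingCat.of R ⟶ CommRingCat.of A) :=
  fun _ => CommRingCat.ofHom (algebraMap R A)

/-- The conerve. -/
abbrev con : CosimplicialObject CommRingCat.{u} := (arr R A).cechConerve

/-- Its terms. -/
abbrev C (n : ℕ) : Type u := ((con R A).obj ⦋n⦌ : CommRingCat.{u})

/-- the structural map. -/
def hd (n : ℕ) : CommRingCat.of R ⟶ (con R A).obj ⦋n⦌ :=
  WidePushout.head (arrs R A n)

instance algC (n : ℕ) : Algebra R (C R A n) := (hd R A n).hom.toAlgebra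

/-- the coprojections. -/
def inj (n : ℕ) (i : Fin (n + 1)) : CommRingCat.of A ⟶ (con R A).obj ⦋n⦌ :=
  WidePushout.ι (arrs R A n) i

lemma arr_inj (n : ℕ) (i : Fin (n + 1)) :
    CommRingCat.ofHom (algebraMap R A) ≫ inj R A n i = hd R A n :=
  WidePushout.arrow_ι (arrs R A n) i

lemma con_ext {n : ℕ} {X : CommRingCat.{u}} (f g : (con R A).obj ⦋n⦌ ⟶ X)
    (h : ∀ i, inj R A n i ≫ f = inj R A n i ≫ g) : f = g := by
  refine WidePushout.hom_ext (arrs R A n) f g h ?_
  change hd R A n ≫ f = hd R A n ≫ g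
  rw [← arr_inj R A n 0, Category.assoc, Category.assoc, h 0]

lemma inj_δ (n : ℕ) (i : Fin (n + 2)) (j : Fin (n + 1)) :
    inj R A n j ≫ (con R A).δ i = inj R A (n + 1) (i.succAbove j) := by
  change WidePushout.ι (arrs R A n) j ≫ WidePushout.desc _ _ _ = _
  rw [WidePushout.ι_desc]
  rfl

lemma hd_δ (n : ℕ) (i : Fin (n + 2)) : hd R A n ≫ (con R A).δ i = hd R A (n + 1) := by
  rw [← arr_inj R A n 0, Category.assoc, inj_δ, arr_inj]

/-- The cofaces as algebra maps. -/
def δA (n : ℕ) (i : Fin (n + 2)) : C R A n →ₐ[R] C R A (n + 1) :=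
  { ((con R A).δ i).hom with
    commutes' := fun r => congrArg (fun f : CommRingCat.of R ⟶ _ => f.hom r) (hd_δ R A n i) }

/-- The coprojections as algebra maps. -/
def ιA (n : ℕ) (i : Fin (n + 1)) : A →ₐ[R] C R A n :=
  { (inj R A n i).hom with
    commutes' := fun r => congrArg (fun f : CommRingCat.of R ⟶ _ => f.hom r) (arr_inj R A n i) }

lemma δA_ιA (n : ℕ) (i : Fin (n + 2)) (j : Fin (n + 1)) (a : A) :
    δA R A n i (ιA R A n j a) = ιA R A (n + 1) (i.succAbove j) a :=
  congrArg (fun f : CommRingCat.of A ⟶ _ => f.hom a) (inj_δ R A n i j)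

lemma algHom_ext {n : ℕ} {S : Type u} [CommRing S] [Algebra R S] (f g : C R A n →ₐ[R] S)
    (h : ∀ i a, f (ιA R A n i a) = g (ιA R A n i a)) : f = g := by
  have := con_ext R A (X := CommRingCat.of S) (CommRingCat.ofHom f.toRingHom)
    (CommRingCat.ofHom g.toRingHom) (fun i => by ext a; exact h i a)
  ext x
  exact congrArg (fun f : (con R A).obj ⦋n⦌ ⟶ CommRingCat.of S => f.hom x) this

/-- The components of the contracting homotopy. -/
def sFun (n : ℕ) (i : Fin (n + 2)) : CommRingCat.of A ⟶ CommRingCat.of (A ⊗[R] C R A n) :=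
  CommRingCat.ofHom (Fin.cases (motive := fun _ => A →ₐ[R] A ⊗[R] C R A n)
    (Algebra.TensorProduct.includeLeft (R := R) (S := R) (A := A) (B := C R A n))
    (fun j => (Algebra.TensorProduct.includeRight (R := R) (A := A) (B := C R A n)).comp
      (ιA R A n j)) i).toRingHom

/-- The contracting map as a morphism. -/
noncomputable def sHom (n : ℕ) :
    (con R A).obj ⦋n + 1⦌ ⟶ CommRingCat.of (A ⊗[R] C R A n) :=
  WidePushout.desc (arrows := arrs R A (n + 1))
    (CommRingCat.ofHom (algebraMap R (A ⊗[R] C R A n))) (sFun R A n) (fun i => by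
    apply CommRingCat.hom_ext
    ext r
    exact AlgHom.commutes _ r)

lemma inj_sHom (n : ℕ) (i : Fin (n + 2)) : inj R A (n + 1) i ≫ sHom R A n = sFun R A n i :=
  WidePushout.ι_desc (arrows := arrs R A (n + 1)) _ _ _ i

lemma hd_sHom (n : ℕ) :
    hd R A (n + 1) ≫ sHom R A n = CommRingCat.ofHom (algebraMap R (A ⊗[R] C R A n)) :=
  WidePushout.head_desc (arrows := arrs R A (n + 1)) _ _ _

/-- The contracting map `C^{n+1} → A ⊗ C^n`. -/
noncomputable def sA (n : ℕ) : C R A (n + 1) →ₐ[R] A ⊗[R] C R A n :=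
  { (sHom R A n).hom with
    commutes' := fun r => congrArg (fun f : CommRingCat.of R ⟶ _ => f.hom r) (hd_sHom R A n) }

lemma sA_ιA_zero (n : ℕ) (a : A) : sA R A n (ιA R A (n + 1) 0 a) = a ⊗ₜ 1 :=
  congrArg (fun f : CommRingCat.of A ⟶ _ => f.hom a) (inj_sHom R A n 0)

lemma sA_ιA_succ (n : ℕ) (j : Fin (n + 1)) (a : A) :
    sA R A n (ιA R A (n + 1) j.succ a) = 1 ⊗ₜ ιA R A n j a :=
  congrArg (fun f : CommRingCat.of A ⟶ _ => f.hom a) (inj_sHom R A n j.succ)

lemma sA_δA_zero (n : ℕ) :
    (sA R A n).comp (δA R A n 0) = Algebra.TensorProduct.includeRight := by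
  apply algHom_ext
  intro i a
  rw [AlgHom.comp_apply, δA_ιA, Fin.succAbove_zero, sA_ιA_succ]
  rfl

lemma sA_δA_succ (n : ℕ) (i : Fin (n + 2)) :
    (sA R A (n + 1)).comp (δA R A (n + 1) i.succ) =
      (Algebra.TensorProduct.map (AlgHom.id R A) (δA R A n i)).comp (sA R A n) := by
  apply algHom_ext
  intro j a
  rw [AlgHom.comp_apply, AlgHom.comp_apply, δA_ιA]
  induction j using Fin.cases with
  | zero => rw [Fin.succ_succAbove_zero, sA_ιA_zero, sA_ιA_zero]; simp
  | succ k => rw [Fin.succ_succAbove_succ, sA_ιA_succ, sA_ιA_succ]; simp [δA_ιA]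

/-- The homotopy on `A ⊗ C^{n+1} → A ⊗ C^n`. -/
noncomputable def h (n : ℕ) : A ⊗[R] C R A (n + 1) →ₐ[R] A ⊗[R] C R A n :=
  Algebra.TensorProduct.productMap (Algebra.TensorProduct.includeLeft (R := R) (S := R))
    (sA R A n)

/-- The differential. -/
noncomputable def d (n : ℕ) : C R A n →ₗ[R] C R A (n + 1) :=
  ∑ i : Fin (n + 2), (-1 : ℤ) ^ (i : ℕ) • (δA R A n i).toLinearMap

lemma d_apply (n : ℕ) (x : C R A n) :
    d R A n x = ∑ i : Fin (n + 2), (-1 : ℤ) ^ (i : ℕ) • (δA R A n i x) := by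
  simp [d, LinearMap.sum_apply]

lemma h_tmul (n : ℕ) (a : A) (x : C R A (n + 1)) :
    h R A n (a ⊗ₜ x) = (a ⊗ₜ 1) * sA R A n x := by
  simp [h]

lemma homotopy (n : ℕ) (y : A ⊗[R] C R A (n + 1)) :
    h R A (n + 1) ((d R A (n + 1)).lTensor A y) + (d R A n).lTensor A (h R A n y) = y := by
  induction y using TensorProduct.induction_on with
  | zero => simp
  | add p q hp hq => simp only [map_add]; linear_combination hp + hq
  | tmul a x =>
    rw [LinearMap.lTensor_tmul, d_apply, TensorProduct.tmul_sum, map_sum, Fin.sum_univ_succ]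
    simp only [TensorProduct.tmul_smul, map_zsmul, h_tmul, Fin.val_zero, pow_zero, one_smul,
      Fin.val_succ]
    have h0 : sA R A (n + 1) (δA R A (n + 1) 0 x) = 1 ⊗ₜ x :=
      AlgHom.congr_fun (sA_δA_zero R A (n + 1)) x
    have hs : ∀ i : Fin (n + 2), (a ⊗ₜ[R] (1 : C R A (n+1))) *
        sA R A (n + 1) (δA R A (n + 1) i.succ x) =
        Algebra.TensorProduct.map (AlgHom.id R A) (δA R A n i) ((a ⊗ₜ 1) * sA R A n x) := by
      intro i
      rw [map_mul, Algebra.TensorProduct.map_tmul, map_one]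
      exact congrArg _ (AlgHom.congr_fun (sA_δA_succ R A n i) x)
    have hd' : ∀ z : A ⊗[R] C R A n, (d R A n).lTensor A z =
        ∑ i : Fin (n + 2), (-1 : ℤ) ^ (i : ℕ) •
          Algebra.TensorProduct.map (AlgHom.id R A) (δA R A n i) z := by
      intro z
      induction z using TensorProduct.induction_on with
      | zero => simp
      | add p q hp hq => simp only [map_add, hp, hq, smul_add, Finset.sum_add_distrib]
      | tmul b w =>
        rw [LinearMap.lTensor_tmul, d_apply, TensorProduct.tmul_sum]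
        refine Finset.sum_congr rfl fun i _ => ?_
        rw [TensorProduct.tmul_smul, Algebra.TensorProduct.map_tmul, AlgHom.coe_id, id_eq]
    rw [h0, hd', Algebra.TensorProduct.tmul_mul_tmul, mul_one, one_mul]
    simp only [hs, pow_succ, mul_neg, mul_one, neg_smul, Finset.sum_neg_distrib]
    abel

/-- Exactness in positive degrees. -/
theorem exact_d [Module.FaithfullyFlat R A] (n : ℕ) (x : C R A (n + 1))
    (hx : d R A (n + 1) x = 0) : ∃ w, d R A n w = x := by
  have h1 := homotopy R A n (1 ⊗ₜ x)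
  rw [LinearMap.lTensor_tmul, hx, TensorProduct.tmul_zero, map_zero, zero_add] at h1
  have h2 : (1 : A) ⊗ₜ[R] (LinearMap.range (d R A n)).mkQ x = 0 := by
    rw [← LinearMap.lTensor_tmul, ← h1, ← LinearMap.comp_apply, ← LinearMap.lTensor_comp]
    simp [LinearMap.range_mkQ_comp]
  have h3 : (LinearMap.range (d R A n)).mkQ x = 0 :=
    Module.FaithfullyFlat.tensorProduct_mk_injective (A := R) (B := A)
      ((C R A (n + 1)) ⧸ LinearMap.range (d R A n))
      (by simpa using h2)
  exact (Submodule.Quotient.mk_eq_zero _).1 h3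

/-- The Amitsur complex, as an alternating coface complex, is exact in positive degrees. -/
theorem exactAt [Module.FaithfullyFlat R A] (n : ℕ) (hn : 0 < n) :
    (AlgebraicTopology.AlternatingCofaceMapComplex.obj
      (con R A ⋙ forget₂ CommRingCat RingCat ⋙
        forget₂ RingCat AddCommGrpCat)).ExactAt n := by
  obtain ⟨m, rfl⟩ : ∃ m, n = m + 1 := ⟨n - 1, by omega⟩
  set X : CosimplicialObject AddCommGrpCat.{u} :=
    con R A ⋙ forget₂ CommRingCat RingCat ⋙ forget₂ RingCat AddCommGrpCat with hX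
  have hobjD : ∀ (k : ℕ) (x : C R A k),
      (AlgebraicTopology.AlternatingCofaceMapComplex.objD X k).hom x = d R A k x := by
    intro k x
    rw [d_apply, AlgebraicTopology.AlternatingCofaceMapComplex.objD]
    refine (map_sum ((AddMonoidHom.eval x).comp (AddCommGrpCat.homAddEquiv :
      (X.obj ⦋k⦌ ⟶ X.obj ⦋k + 1⦌) ≃+ _).toAddMonoidHom) _ _).trans ?_
    refine Finset.sum_congr rfl fun i _ => ?_
    rfl
  rw [HomologicalComplex.exactAt_iff' _ m (m + 1) (m + 2) (by simp) (by simp),
    ShortComplex.ab_exact_iff]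
  intro x hx
  have hx' : (AlgebraicTopology.AlternatingCofaceMapComplex.objD X (m + 1)).hom x = 0 := by
    refine (congrArg (fun f : X.obj ⦋m + 1⦌ ⟶ X.obj ⦋m + 2⦌ => f.hom x) ?_).trans hx
    exact (CochainComplex.of_d (fun n => X.obj ⦋n⦌) (AlgebraicTopology.AlternatingCofaceMapComplex.objD X) (m + 1)).symm
  obtain ⟨w, hw⟩ := exact_d R A m x ((hobjD (m + 1) x).symm.trans hx')
  refine ⟨w, ?_⟩
  have := (hobjD m w).trans hw
  refine (congrArg (fun f : X.obj ⦋m⦌ ⟶ X.obj ⦋m + 1⦌ => f.hom w) ?_).trans this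
  exact CochainComplex.of_d (fun n => X.obj ⦋n⦌) (AlgebraicTopology.AlternatingCofaceMapComplex.objD X) m

end

end GrothLib.Amitsur
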