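import Groth.Agent.Lib.Amitsur.Basic

/-!
# Exactness of the Amitsur complex with coefficients in a module
-/

universe u

open CategoryTheory CategoryTheory.Limits TensorProduct

namespace GrothLib.Amitsur

noncomputable section

variable (R A : Type u) [CommRing R] [CommRing A] [Algebra R A] (M : Type u) [AddCommGroup M] [Module R M]

/-- The differential with coefficients. -/
def dM (n : ℕ) : C R A n ⊗[R] M →ₗ[R] C R A (n + 1) ⊗[R] M := (d R A n).rTensor M

theorem dM_apply_tmul (n : ℕ) (x : C R A n) (m : M) :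
    dM R A M n (x ⊗ₜ m) = ∑ i : Fin (n + 2), (-1 : ℤ) ^ (i : ℕ) • (δA R A n i x ⊗ₜ[R] m) := by
  rw [dM, LinearMap.rTensor_tmul, d_apply, sum_tmul]
  rfl

/-- Exactness in positive degrees. -/
theorem exact_dM [Module.FaithfullyFlat R A] (n : ℕ) (x : C R A (n + 1) ⊗[R] M)
    (hx : dM R A M (n + 1) x = 0) : ∃ w, dM R A M n w = x := by
  let hM : A ⊗[R] (C R A (n + 1) ⊗[R] M) →ₗ[R] A ⊗[R] (C R A n ⊗[R] M) :=
    (TensorProduct.assoc R A (C R A n) M).toLinearMap ∘ₗ ((h R A n).toLinearMap.rTensor M) ∘ₗ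
      (TensorProduct.assoc R A (C R A (n + 1)) M).symm.toLinearMap
  let hM' : A ⊗[R] (C R A (n + 2) ⊗[R] M) →ₗ[R] A ⊗[R] (C R A (n + 1) ⊗[R] M) :=
    (TensorProduct.assoc R A (C R A (n + 1)) M).toLinearMap ∘ₗ ((h R A (n + 1)).toLinearMap.rTensor M) ∘ₗ
      (TensorProduct.assoc R A (C R A (n + 2)) M).symm.toLinearMap
  have key : hM' ∘ₗ (dM R A M (n + 1)).lTensor A + (dM R A M n).lTensor A ∘ₗ hM = LinearMap.id := by
    refine TensorProduct.ext' fun a y => ?_
    induction y using TensorProduct.induction_on with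
    | zero => simp
    | add p q hp hq => simp only [TensorProduct.tmul_add, map_add, hp, hq]
    | tmul c m =>
      have e := congrArg (fun z => TensorProduct.assoc R A (C R A (n + 1)) M (z ⊗ₜ m))
        (homotopy R A n (a ⊗ₜ c))
      simp only [LinearMap.lTensor_tmul, TensorProduct.assoc_tmul, TensorProduct.add_tmul, map_add] at e
      refine Eq.trans ?_ e
      have e2 : ∀ z : A ⊗[R] C R A n, (dM R A M n).lTensor A (TensorProduct.assoc R A (C R A n) M (z ⊗ₜ m)) =
          TensorProduct.assoc R A (C R A (n + 1)) M ((d R A n).lTensor A z ⊗ₜ m) := by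
        intro z
        induction z using TensorProduct.induction_on with
        | zero => simp
        | add p q hp hq => simp only [TensorProduct.add_tmul, map_add, hp, hq]
        | tmul b w => simp [dM]
      simp [hM, hM', dM, ← e2]
  have h1 := LinearMap.congr_fun key (1 ⊗ₜ x)
  rw [LinearMap.add_apply, LinearMap.comp_apply, LinearMap.lTensor_tmul, hx, TensorProduct.tmul_zero, map_zero,
    zero_add] at h1
  have h2 : (1 : A) ⊗ₜ[R] (LinearMap.range (dM R A M n)).mkQ x = 0 := by
    rw [← LinearMap.lTensor_tmul, ← show _ = (1 : A) ⊗ₜ[R] x from h1, ← LinearMap.comp_apply, ← LinearMap.comp_assoc,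
      ← LinearMap.lTensor_comp]
    simp [LinearMap.range_mkQ_comp]
  have h3 : (LinearMap.range (dM R A M n)).mkQ x = 0 :=
    Module.FaithfullyFlat.tensorProduct_mk_injective (A := R) (B := A)
      ((C R A (n + 1) ⊗[R] M) ⧸ LinearMap.range (dM R A M n))
      (by simpa using h2)
  exact (Submodule.Quotient.mk_eq_zero _).1 h3

/-- The augmentation of the zeroth term. -/
def aug : C R A 0 →ₐ[R] A :=
  { (WidePushout.desc (arrows := arrs R A 0) (CommRingCat.ofHom (algebraMap R A)) (fun _ => 𝟙 (CommRingCat.of A))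
      (fun _ => Category.comp_id _)).hom with
    commutes' := fun r => congrArg (fun f : CommRingCat.of R ⟶ _ => f.hom r)
      (WidePushout.head_desc (arrows := arrs R A 0) _ _ _) }

theorem aug_ιA (i : Fin 1) (a : A) : aug R A (ιA R A 0 i a) = a :=
  congrArg (fun f : CommRingCat.of A ⟶ _ => f.hom a)
    (WidePushout.ι_desc (arrows := arrs R A 0) (CommRingCat.ofHom (algebraMap R A)) (fun _ => 𝟙 (CommRingCat.of A))
      (fun _ => Category.comp_id _) i)

theorem sA_δA_one_zero : (sA R A 0).comp (δA R A 0 1) =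
    (Algebra.TensorProduct.includeLeft (R := R) (S := R) (A := A) (B := C R A 0)).comp (aug R A) := by
  apply algHom_ext
  intro i a
  rw [AlgHom.comp_apply, AlgHom.comp_apply, δA_ιA, Fin.fin_one_eq_zero i, aug_ιA]
  exact sA_ιA_zero R A 0 a

/-- Elements of `M` are determined by their images in `A ⊗ M`. -/
theorem injective_one_tmul [Module.FaithfullyFlat R A] :
    Function.Injective fun m : M => (1 : C R A 0) ⊗ₜ[R] m := fun m m' e =>
  Module.FaithfullyFlat.tensorProduct_mk_injective (A := R) (B := A) M (by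
    have := congrArg ((aug R A).toLinearMap.rTensor M) e
    simpa using this)

/-- Exactness in degree zero. -/
theorem exact_dM_zero [Module.FaithfullyFlat R A] (x : C R A 0 ⊗[R] M) (hx : dM R A M 0 x = 0) :
    ∃ m, (1 : C R A 0) ⊗ₜ[R] m = x := by
  let η : M →ₗ[R] C R A 0 ⊗[R] M := TensorProduct.mk R (C R A 0) M 1
  let hM : A ⊗[R] (C R A 1 ⊗[R] M) →ₗ[R] A ⊗[R] (C R A 0 ⊗[R] M) :=
    (TensorProduct.assoc R A (C R A 0) M).toLinearMap ∘ₗ ((h R A 0).toLinearMap.rTensor M) ∘ₗ
      (TensorProduct.assoc R A (C R A 1) M).symm.toLinearMap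
  have key : ∀ y : C R A 0 ⊗[R] M,
      hM (1 ⊗ₜ dM R A M 0 y) = (1 : A) ⊗ₜ[R] y - η.lTensor A ((aug R A).toLinearMap.rTensor M y) := by
    intro y
    induction y using TensorProduct.induction_on with
    | zero => simp
    | add p q hp hq => simp only [map_add, TensorProduct.tmul_add, hp, hq]; abel
    | tmul c m =>
      have e0 : sA R A 0 (δA R A 0 0 c) = (1 : A) ⊗ₜ c := AlgHom.congr_fun (sA_δA_zero R A 0) c
      have e1 : sA R A 0 (δA R A 0 1 c) = aug R A c ⊗ₜ (1 : C R A 0) := AlgHom.congr_fun (sA_δA_one_zero R A) c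
      rw [dM_apply_tmul, Fin.sum_univ_two]
      simp [hM, η, h_tmul, e0, e1, TensorProduct.tmul_add, TensorProduct.tmul_neg, TensorProduct.neg_tmul,
        sub_eq_add_neg]
  have h1 := key x
  rw [hx, TensorProduct.tmul_zero, map_zero, eq_comm, sub_eq_zero] at h1
  have h2 : (1 : A) ⊗ₜ[R] (LinearMap.range η).mkQ x = 0 := by
    rw [← LinearMap.lTensor_tmul, h1, ← LinearMap.comp_apply, ← LinearMap.lTensor_comp]
    simp [LinearMap.range_mkQ_comp]
  have h3 : (LinearMap.range η).mkQ x = 0 :=
    Module.FaithfullyFlat.tensorProduct_mk_injective (A := R) (B := A)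
      ((C R A 0 ⊗[R] M) ⧸ LinearMap.range η) (by simpa using h2)
  exact (Submodule.Quotient.mk_eq_zero _).1 h3

end

end GrothLib.Amitsur
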